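import Groth.Prelude.Def_SGA4a
import Mathlib.CategoryTheory.Sites.Canonical
import Mathlib.CategoryTheory.Sites.Continuous
import Mathlib.CategoryTheory.Sites.Limits
import Mathlib.CategoryTheory.Sites.LocallyInjective
import Mathlib.CategoryTheory.Sites.LocallySurjective
import Mathlib.CategoryTheory.Topos.Sheaf
import Mathlib.CategoryTheory.Limits.Yoneda
import Mathlib.CategoryTheory.Limits.Preserves.Opposites
import Mathlib.CategoryTheory.Subfunctor.Basic
import Mathlib.CategoryTheory.Sites.Subsheaf
import Mathlib.CategoryTheory.Adjunction.PartialAdjoint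

/-!
# The canonical topology of a topos of sheaves
-/

set_option autoImplicit false

universe w v u

open CategoryTheory CategoryTheory.Limits Opposite

namespace Groth.Agent.CanonTopos

variable {C : Type u} [SmallCategory C] (J : GrothendieckTopology C)

/-- The generators. -/
noncomputable abbrev L : C ⥤ Sheaf J (Type u) := yoneda ⋙ presheafToSheaf J (Type u)

variable {J}

/-- A section as a map out of a generator. -/
noncomputable def lift {X : Sheaf J (Type u)} {c : C} (x : X.obj.obj (op c)) : (L J).obj c ⟶ X :=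
  ((sheafificationAdjunction J (Type u)).homEquiv _ _).symm (yonedaEquiv.symm x)

/-- The section of a map out of a generator. -/
noncomputable def sec {X : Sheaf J (Type u)} {c : C} (t : (L J).obj c ⟶ X) : X.obj.obj (op c) :=
  yonedaEquiv ((sheafificationAdjunction J (Type u)).homEquiv _ _ t)

@[simp] theorem lift_sec {X : Sheaf J (Type u)} {c : C} (t : (L J).obj c ⟶ X) : lift (sec t) = t := by
  simp [lift, sec]

@[simp] theorem sec_lift {X : Sheaf J (Type u)} {c : C} (x : X.obj.obj (op c)) : sec (lift x) = x := by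
  simp [lift, sec]

theorem sec_comp {X Y : Sheaf J (Type u)} {c : C} (t : (L J).obj c ⟶ X) (f : X ⟶ Y) :
    sec (t ≫ f) = f.hom.app (op c) (sec t) := by
  simp only [sec, Adjunction.homEquiv_naturality_right, yonedaEquiv_comp]
  rfl

theorem lift_comp {X Y : Sheaf J (Type u)} {c : C} (x : X.obj.obj (op c)) (f : X ⟶ Y) :
    lift x ≫ f = lift (f.hom.app (op c) x) := by
  rw [← lift_sec (lift x ≫ f), sec_comp, sec_lift]

theorem map_lift {X : Sheaf J (Type u)} {c d : C} (a : d ⟶ c) (x : X.obj.obj (op c)) :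
    (L J).map a ≫ lift x = lift (X.obj.map a.op x) := by
  simp only [lift, Functor.comp_map]
  rw [← Adjunction.homEquiv_naturality_left_symm]
  congr 1
  apply yonedaEquiv.injective
  rw [← yonedaEquiv_naturality, Equiv.apply_symm_apply, Equiv.apply_symm_apply]
  rfl

theorem hom_ext {X Y : Sheaf J (Type u)} {f g : X ⟶ Y}
    (h : ∀ (c : C) (x : X.obj.obj (op c)), f.hom.app (op c) x = g.hom.app (op c) x) : f = g := by
  apply Sheaf.hom_ext
  ext c x
  exact h c.unop x

theorem isSheaf (W : Sheaf J (Type u)) : Presieve.IsSheaf J W.obj :=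
  (isSheaf_iff_isSheaf_of_type _ _).1 W.property

/-- Where `lift` lands in a sieve. -/
noncomputable def locSieve {X : Sheaf J (Type u)} (S : Sieve X) {c : C} (x : X.obj.obj (op c)) : Sieve c :=
  (S.pullback (lift x)).functorPullback (L J)

theorem mem_locSieve {X : Sheaf J (Type u)} {S : Sieve X} {c d : C} {x : X.obj.obj (op c)} {a : d ⟶ c} :
    locSieve S x a ↔ S (lift (X.obj.map a.op x)) := by
  show S ((L J).map a ≫ lift x) ↔ _
  rw [map_lift]

/-- Every section lies locally in the sieve. -/
def LocSurj {X : Sheaf J (Type u)} (S : Sieve X) : Prop :=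
  ∀ (c : C) (x : X.obj.obj (op c)), locSieve S x ∈ J c

theorem locSurj_pullback {X Y : Sheaf J (Type u)} {S : Sieve X} (h : LocSurj S) (f : Y ⟶ X) :
    LocSurj (S.pullback f) := fun c y => by
  refine J.superset_covering ?_ (h c (f.hom.app (op c) y))
  intro d a ha
  show S (((L J).map a ≫ lift y) ≫ f)
  rw [Category.assoc, lift_comp]
  exact ha

/-- Gluing a morphism out of `X` from compatible values on locally enough sections. -/
theorem glue {X W : Sheaf J (Type u)} (P : ∀ c, X.obj.obj (op c) → Prop)
    (hres : ∀ {c d : C} (a : d ⟶ c) (x : X.obj.obj (op c)), P c x → P d (X.obj.map a.op x))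
    (hloc : ∀ (c : C) (x : X.obj.obj (op c)), ∃ R ∈ J c, ∀ ⦃d : C⦄ (a : d ⟶ c), R a → P d (X.obj.map a.op x))
    (w : ∀ (c : C) (x : X.obj.obj (op c)), P c x → W.obj.obj (op c))
    (hw : ∀ {c d : C} (a : d ⟶ c) (x : X.obj.obj (op c)) (hx : P c x),
      W.obj.map a.op (w c x hx) = w d _ (hres a x hx)) :
    ∃! f : X ⟶ W, ∀ (c : C) (x : X.obj.obj (op c)) (hx : P c x), f.hom.app (op c) x = w c x hx := by
  have hW := isSheaf W
  choose R hR hRP using hloc
  let fam : ∀ c x, Presieve.FamilyOfElements W.obj (R c x).arrows := fun c x d a ha => w d _ (hRP c x a ha)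
  have weq : ∀ {d : C} (y y' : X.obj.obj (op d)) (hy : P d y) (hy' : P d y'), y = y' → w d y hy = w d y' hy' := by
    rintro d y _ hy hy' rfl; rfl
  have hcomp : ∀ c x, (fam c x).Compatible := fun c x d₁ d₂ e g₁ g₂ a₁ a₂ h₁ h₂ heq => by
    simp only [fam, hw]
    apply weq
    rw [← FunctorToTypes.map_comp_apply, ← FunctorToTypes.map_comp_apply, ← op_comp, ← op_comp, heq]
  let val : ∀ c x, W.obj.obj (op c) := fun c x => (hW _ (hR c x)).amalgamate _ (hcomp c x)
  have hval : ∀ c x ⦃d : C⦄ (a : d ⟶ c) (ha : R c x a), W.obj.map a.op (val c x) = w d _ (hRP c x a ha) :=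
    fun c x d a ha => (hW _ (hR c x)).valid_glue (hcomp c x) a ha
  have hvalP : ∀ c x (hx : P c x), val c x = w c x hx := fun c x hx => by
    refine (hW.isSeparated _ (hR c x)).ext fun d a ha => ?_
    rw [hval c x a ha, hw]
  let f : X.obj ⟶ W.obj :=
    { app := fun c => ↾(val c.unop)
      naturality := fun c c' a => by
        ext x
        change val c'.unop (X.obj.map a x) = W.obj.map a (val c.unop x)
        refine (hW.isSeparated _ (J.intersection_covering (hR c'.unop (X.obj.map a x))
          (J.pullback_stable a.unop (hR c.unop x)))).ext fun d b hb => ?_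
        refine (hval _ _ b hb.1).trans (Eq.trans ?_ (FunctorToTypes.map_comp_apply W.obj a b.op _))
        refine (weq _ _ _ (hRP _ _ _ hb.2) ?_).trans (hval _ _ (b ≫ a.unop) hb.2).symm
        exact (FunctorToTypes.map_comp_apply X.obj a b.op x).symm }
  refine ⟨⟨f⟩, fun c x hx => hvalP c x hx, fun g hg => hom_ext fun c x => ?_⟩
  refine (hW.isSeparated _ (hR c x)).ext fun d a ha => ?_
  change _ = W.obj.map a.op (val c x)
  rw [hval c x a ha, ← NatTrans.naturality_apply, hg]

theorem isSheafFor_yoneda {X : Sheaf J (Type u)} {S : Sieve X} (h : LocSurj S) (W : Sheaf J (Type u)) :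
    Presieve.IsSheafFor (yoneda.obj W) S.arrows := by
  intro φ hφ
  have hres : ∀ {c d : C} (a : d ⟶ c) (x : X.obj.obj (op c)), S (lift x) → S (lift (X.obj.map a.op x)) :=
    fun a x hx => by rw [← map_lift]; exact S.downward_closed hx _
  have hφeq : ∀ {V : Sheaf J (Type u)} (h₁ h₂ : V ⟶ X) (m₁ : S h₁) (m₂ : S h₂), h₁ = h₂ → φ h₁ m₁ = φ h₂ m₂ := by
    rintro V h₁ _ m₁ m₂ rfl; rfl
  have hnat : ∀ {V V' : Sheaf J (Type u)} (g : V' ⟶ V) (h₁ : V ⟶ X) (m : S h₁),
      g ≫ φ h₁ m = φ (g ≫ h₁) (S.downward_closed m g) := fun g h₁ m => by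
    simpa using hφ g (𝟙 _) m (S.downward_closed m g) (by simp)
  obtain ⟨f, hf, huniq⟩ := glue (X := X) (W := W) (fun c x => S (lift x)) hres
    (fun c x => ⟨_, h c x, fun d a ha => mem_locSieve.mp ha⟩)
    (fun c x hx => sec (φ (lift x) hx)) (fun {c d} a x hx => by
      apply (show Function.Injective (lift (X := W) (c := d)) from fun p q hpq => by
        simpa using congrArg sec hpq)
      rw [lift_sec, ← map_lift, lift_sec, hnat]
      exact hφeq _ _ _ _ (map_lift a x))
  refine ⟨f, fun V g hg => hom_ext fun c v => ?_, fun f' hf' => huniq f' fun c x hx => ?_⟩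
  · have hS : S (lift (g.hom.app (op c) v)) := by rw [← lift_comp]; exact S.downward_closed hg _
    change f.hom.app (op c) (g.hom.app (op c) v) = _
    rw [hf c _ hS, hφeq _ _ hS (S.downward_closed hg (lift v)) (lift_comp v g).symm, ← hnat, sec_comp, sec_lift]
  · rw [← hf' _ hx]
    show _ = sec (lift x ≫ f')
    rw [sec_comp, sec_lift]

theorem canonical_of_locSurj {X : Sheaf J (Type u)} {S : Sieve X} (h : LocSurj S) :
    S ∈ Sheaf.canonicalTopology (Sheaf J (Type u)) X :=
  Sheaf.mem_finestTopology_of_forall_isSheafFor fun _ ⟨W, hW⟩ _ f => hW ▸ isSheafFor_yoneda (locSurj_pullback h f) W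

/-- A jointly epimorphic sieve is locally surjective. -/
theorem locSurj_of_epi {X : Sheaf J (Type u)} {S : Sieve X}
    (h : ∀ (Z : Sheaf J (Type u)) (a b : X ⟶ Z), (∀ ⦃V : Sheaf J (Type u)⦄ (g : V ⟶ X), S g → g ≫ a = g ≫ b) → a = b) :
    LocSurj S := by
  have hres : ∀ {c d : C} (a : d ⟶ c) (x : X.obj.obj (op c)), locSieve S x ∈ J c →
      locSieve S (X.obj.map a.op x) ∈ J d := fun a x hx => by
    refine J.superset_covering ?_ (J.pullback_stable a hx)
    intro e b hb
    rw [mem_locSieve, ← FunctorToTypes.map_comp_apply, ← op_comp]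
    exact mem_locSieve.mp hb
  let B : Subfunctor X.obj :=
    { obj := fun c => {x | locSieve S (c := c.unop) x ∈ J c.unop}
      map := fun {c c'} a x hx => hres a.unop x hx }
  have hB : Presieve.IsSheaf J B.toFunctor := by
    rw [B.isSheaf_iff (isSheaf X)]
    intro c x hx
    refine J.transitive hx _ fun d a ha => ?_
    refine J.superset_covering ?_ (ha : locSieve S (X.obj.map a.op x) ∈ J d)
    intro e b hb
    rw [Sieve.pullback_apply, mem_locSieve, op_comp, FunctorToTypes.map_comp_apply]
    exact mem_locSieve.mp hb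
  let Bs : Sheaf J (Type u) := ⟨B.toFunctor, (isSheaf_iff_isSheaf_of_type _ _).2 hB⟩
  let m : Bs ⟶ X := ⟨B.ι⟩
  haveI : Mono m := ⟨fun p q hpq => hom_ext fun c x => Subtype.ext
    (congrArg (fun (s : _ ⟶ X) => s.hom.app (op c) x) hpq)⟩
  let hm := regularMonoOfMono m
  have hfac : ∀ ⦃V : Sheaf J (Type u)⦄ (g : V ⟶ X), S g → ∃ g', g' ≫ m = g := by
    intro V g hg
    have hmem : ∀ (c : Cᵒᵖ) (v : V.obj.obj c), g.hom.app c v ∈ B.obj c := fun c v => by
      refine J.superset_covering ?_ (J.top_mem c.unop)
      intro d a _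
      rw [mem_locSieve, ← NatTrans.naturality_apply, ← lift_comp]
      exact S.downward_closed hg _
    exact ⟨⟨{ app := fun c => ↾(fun v => ⟨g.hom.app c v, hmem c v⟩)
              naturality := fun c c' a => by
                ext v; apply Subtype.ext; exact NatTrans.naturality_apply g.hom a v }⟩, rfl⟩
  have heq : hm.left = hm.right := h _ _ _ fun V g hg => by
    obtain ⟨g', rfl⟩ := hfac g hg
    rw [Category.assoc, Category.assoc, hm.w]
  intro c x
  obtain ⟨s, hs⟩ := RegularMono.lift' hm (𝟙 X) (by simp [heq])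
  have := (s.hom.app (op c) x).2
  have e : (s.hom.app (op c) x).1 = x := congrArg (fun t : X ⟶ X => t.hom.app (op c) x) hs
  rw [← e]
  exact this

theorem locSurj_of_canonical {X : Sheaf J (Type u)} {S : Sieve X}
    (h : S ∈ Sheaf.canonicalTopology (Sheaf J (Type u)) X) : LocSurj S :=
  locSurj_of_epi fun Z a b hab =>
    ((Sheaf.isSheaf_yoneda_obj Z).isSeparated _ h).ext fun V g hg => hab g hg

theorem mem_canonical_iff {X : Sheaf J (Type u)} {S : Sieve X} :
    S ∈ Sheaf.canonicalTopology (Sheaf J (Type u)) X ↔ LocSurj S :=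
  ⟨locSurj_of_canonical, canonical_of_locSurj⟩

theorem locSurj_ofArrows_of_epiFamily {ι : Type*} {X : Sheaf J (Type u)} {U : ι → Sheaf J (Type u)}
    (g : ∀ i, U i ⟶ X) (hg : SGA4.IsEpiFamily g) : LocSurj (Sieve.ofArrows U g) :=
  locSurj_of_epi fun Z a b hab => hg Z a b fun i => hab _ (Sieve.ofArrows_mk _ _ i)

section colimit

variable {X : Sheaf J (Type u)} (P : ∀ c, X.obj.obj (op c) → Prop)

/-- The small category of the chosen sections. -/
abbrev Idx := ObjectProperty.FullSubcategory (fun e : X.obj.Elements => P e.1.unop e.2)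

/-- The diagram of generators over the chosen sections. -/
noncomputable def diag : (Idx P)ᵒᵖ ⥤ Sheaf J (Type u) :=
  (ObjectProperty.ι _ ⋙ CategoryOfElements.π X.obj).leftOp ⋙ L J

noncomputable def cocone : Cocone (diag P) where
  pt := X
  ι :=
    { app := fun k => lift (c := k.unop.obj.1.unop) k.unop.obj.2
      naturality := fun k k' a => by
        have ha := (a.unop).hom.2
        show (L J).map (a.unop.hom.1).unop ≫ lift (c := k'.unop.obj.1.unop) k'.unop.obj.2 = _ ≫ 𝟙 _
        rw [Category.comp_id, map_lift]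
        exact congrArg _ ha }

variable {P}

theorem isColimit (hres : ∀ {c d : C} (a : d ⟶ c) (x : X.obj.obj (op c)), P c x → P d (X.obj.map a.op x))
    (hloc : ∀ (c : C) (x : X.obj.obj (op c)), ∃ R ∈ J c, ∀ ⦃d : C⦄ (a : d ⟶ c), R a → P d (X.obj.map a.op x)) :
    Nonempty (IsColimit (cocone P)) := by
  refine ⟨IsColimit.ofExistsUnique fun s => ?_⟩
  let w : ∀ (c : C) (x : X.obj.obj (op c)), P c x → s.pt.obj.obj (op c) := fun c x hx =>
    sec (s.ι.app (op ⟨⟨op c, x⟩, hx⟩))
  obtain ⟨f, hf, huniq⟩ := glue (W := s.pt) P hres hloc w (fun {c d} a x hx => by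
    apply (show Function.Injective (lift (X := s.pt) (c := d)) from fun p q hpq => by
      simpa using congrArg sec hpq)
    simp only [w, ← map_lift, lift_sec]
    let k : Idx P := ⟨⟨op c, x⟩, hx⟩
    let k' : Idx P := ⟨⟨op d, X.obj.map a.op x⟩, hres a x hx⟩
    exact s.w (j := op k) (j' := op k') (Quiver.Hom.op (ObjectProperty.homMk (show k.obj ⟶ k'.obj from ⟨a.op, rfl⟩) : k ⟶ k')))
  refine ⟨f, fun k => ?_, fun f' hf' => huniq f' fun c x hx => ?_⟩
  · show lift (c := k.unop.obj.1.unop) k.unop.obj.2 ≫ f = _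
    rw [lift_comp, hf _ _ k.unop.property]
    exact lift_sec _
  · show _ = sec (s.ι.app (op ⟨⟨op c, x⟩, hx⟩))
    rw [← hf' (op ⟨⟨op c, x⟩, hx⟩)]
    show _ = sec (lift x ≫ f')
    rw [sec_comp, sec_lift]

/-- A functor turning small colimits into limits is determined by compatible values on sections. -/
theorem existsUnique_of_preserves (G : (Sheaf J (Type u))ᵒᵖ ⥤ Type w) [PreservesLimitsOfSize.{u, u} G]
    (hres : ∀ {c d : C} (a : d ⟶ c) (x : X.obj.obj (op c)), P c x → P d (X.obj.map a.op x))
    (hloc : ∀ (c : C) (x : X.obj.obj (op c)), ∃ R ∈ J c, ∀ ⦃d : C⦄ (a : d ⟶ c), R a → P d (X.obj.map a.op x))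
    (z : ∀ (c : C) (x : X.obj.obj (op c)), P c x → G.obj (op ((L J).obj c)))
    (hz : ∀ {c d : C} (a : d ⟶ c) (x : X.obj.obj (op c)) (hx : P c x),
      G.map ((L J).map a).op (z c x hx) = z d _ (hres a x hx)) :
    ∃! g : G.obj (op X), ∀ (c : C) (x : X.obj.obj (op c)) (hx : P c x), G.map (lift x).op g = z c x hx := by
  obtain ⟨hc⟩ := isColimit hres hloc
  have hl := isLimitOfPreserves G hc.op
  let z' : ∀ k, ((diag P).op ⋙ G).obj k := fun k => z k.unop.unop.obj.1.unop k.unop.unop.obj.2 k.unop.unop.property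
  have hz' : z' ∈ ((diag P).op ⋙ G).sections := by
    intro k k' a
    have ha := (a.unop.unop).hom.2
    show G.map ((L J).map (a.unop.unop.hom.1).unop).op (z _ _ _) = z _ _ _
    rw [hz]
    congr 1
  obtain ⟨g, hg, huniq⟩ := (Types.isLimit_iff (G.mapCone (cocone P).op)).mp ⟨hl⟩ z' hz'
  exact ⟨g, fun c x hx => hg (op (op ⟨⟨op c, x⟩, hx⟩)), fun g' hg' => huniq g' fun k => hg' _ _ _⟩

end colimit

/-- A functor turning small colimits into limits is a sheaf for the canonical topology. -/
theorem isSheaf_of_preserves (G : (Sheaf J (Type u))ᵒᵖ ⥤ Type w) [PreservesLimitsOfSize.{u, u} G] :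
    Presieve.IsSheaf (Sheaf.canonicalTopology (Sheaf J (Type u))) G := by
  intro X S hS φ hφ
  have h := locSurj_of_canonical hS
  have hres : ∀ {c d : C} (a : d ⟶ c) (x : X.obj.obj (op c)), S (lift x) → S (lift (X.obj.map a.op x)) :=
    fun a x hx => by rw [← map_lift]; exact S.downward_closed hx _
  have hφeq : ∀ {V : Sheaf J (Type u)} (h₁ h₂ : V ⟶ X) (m₁ : S h₁) (m₂ : S h₂), h₁ = h₂ → φ h₁ m₁ = φ h₂ m₂ := by
    rintro V h₁ _ m₁ m₂ rfl; rfl
  have hnat : ∀ {V V' : Sheaf J (Type u)} (g : V' ⟶ V) (h₁ : V ⟶ X) (m : S h₁),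
      G.map g.op (φ h₁ m) = φ (g ≫ h₁) (S.downward_closed m g) := fun g h₁ m => by
    simpa using hφ g (𝟙 _) m (S.downward_closed m g) (by simp)
  obtain ⟨g, hg, huniq⟩ := existsUnique_of_preserves (X := X) (P := fun c x => S (lift x)) G hres
    (fun c x => ⟨_, h c x, fun d a ha => mem_locSieve.mp ha⟩)
    (fun c x hx => φ (lift x) hx) (fun {c d} a x hx => by rw [hnat]; exact hφeq _ _ _ _ (map_lift a x))
  refine ⟨g, fun V m hm => ?_, fun g' hg' => huniq g' fun c x hx => hg' _ hx⟩
  obtain ⟨q, -, hq⟩ := existsUnique_of_preserves (X := V) (P := fun _ _ => True) G (fun _ _ _ => trivial)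
    (fun c _ => ⟨⊤, J.top_mem c, fun _ _ _ => trivial⟩)
    (fun c v _ => G.map (lift v).op (φ m hm)) (fun {c d} a v _ => by
      rw [← FunctorToTypes.map_comp_apply, ← op_comp, map_lift])
  refine (hq _ fun c v _ => ?_).trans (hq _ fun c v _ => rfl).symm
  have hS' : S (lift (m.hom.app (op c) v)) := by rw [← lift_comp]; exact S.downward_closed hm _
  rw [← FunctorToTypes.map_comp_apply, ← op_comp, lift_comp, hg _ _ hS', hnat]
  exact hφeq _ _ _ _ (lift_comp v m).symm

/-- A sheaf for the canonical topology turns small colimits into limits. -/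
theorem preserves_of_isSheaf (G : (Sheaf J (Type u))ᵒᵖ ⥤ Type w)
    (hG : Presieve.IsSheaf (Sheaf.canonicalTopology (Sheaf J (Type u))) G) :
    PreservesLimitsOfSize.{u, u} G := by
  refine ⟨fun {K} _ => ⟨fun {D} => ⟨fun {c} hc => ?_⟩⟩⟩
  refine (Types.isLimit_iff _).mpr fun x hx => ?_
  let U : K → Sheaf J (Type u) := fun k => (D.obj k).unop
  let leg : ∀ k, U k ⟶ c.pt.unop := fun k => (c.π.app k).unop
  have hepi : SGA4.IsEpiFamily leg := fun Z a b hab =>
    Quiver.Hom.op_inj (hc.hom_ext fun k => Quiver.Hom.unop_inj (hab k))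
  have hcov := canonical_of_locSurj (locSurj_ofArrows_of_epiFamily leg hepi)
  -- sections of the diagram with equal values
  let r : ∀ c : Cᵒᵖ, (Σ k, (U k).obj.obj c) → (Σ k, (U k).obj.obj c) → Prop := fun c p q =>
    G.map (lift (c := c.unop) p.2).op (x p.1) = G.map (lift (c := c.unop) q.2).op (x q.1)
  let st : ∀ c, Setoid (Σ k, (U k).obj.obj c) := fun c =>
    ⟨r c, ⟨fun _ => rfl, fun h => h.symm, fun h h' => h.trans h'⟩⟩
  let Q : Cᵒᵖ ⥤ Type u :=
    { obj := fun c => Quotient (st c)
      map := fun {c c'} a => ↾(Quotient.map (fun p => ⟨p.1, (U p.1).obj.map a p.2⟩) (fun p q hpq => by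
        show G.map (lift (c := c'.unop) ((U p.1).obj.map a p.2)).op (x p.1) =
          G.map (lift (c := c'.unop) ((U q.1).obj.map a q.2)).op (x q.1)
        have := congrArg (fun t => G.map ((L J).map a.unop).op t) (hpq : r c p q)
        simpa only [r, ← FunctorToTypes.map_comp_apply, ← op_comp, map_lift, Quiver.Hom.op_unop] using this))
      map_id := fun c => by
        ext z
        induction z using Quotient.inductionOn with
        | _ p => exact congrArg (fun s => Quotient.mk (st c) ⟨p.1, s⟩) (FunctorToTypes.map_id_apply (U p.1).obj p.2)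
      map_comp := fun {c c' c''} a b => by
        ext z
        induction z using Quotient.inductionOn with
        | _ p => exact congrArg (fun s => Quotient.mk (st c'') ⟨p.1, s⟩) (FunctorToTypes.map_comp_apply (U p.1).obj a b p.2) }
  let aQ := (presheafToSheaf J (Type u)).obj Q
  let η := toSheafify J Q
  let toQ : ∀ k, (U k).obj ⟶ Q := fun k =>
    { app := fun c => ↾(fun p => Quotient.mk (st c) ⟨k, p⟩)
      naturality := fun c c' a => by ext p; rfl }
  let leg' : ∀ k, U k ⟶ aQ := fun k => ⟨toQ k ≫ η⟩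
  have hleg' : ∀ {k k' : K} (a : k ⟶ k'), (D.map a).unop ≫ leg' k = leg' k' := fun {k k'} a =>
    hom_ext fun e p => by
      refine congrArg (η.app (op e)) (Quotient.sound ?_)
      show G.map (lift ((D.map a).unop.hom.app (op e) p)).op (x k) = G.map (lift p).op (x k')
      rw [← lift_comp, op_comp, FunctorToTypes.map_comp_apply]
      exact congrArg _ (hx a)
  let cn : Cone D :=
    { pt := op aQ
      π := { app := fun k => (leg' k).op
             naturality := fun k k' a => by
               apply Quiver.Hom.unop_inj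
               simpa using (hleg' a).symm } }
  let d : c.pt.unop ⟶ aQ := (hc.lift cn).unop
  have hd : ∀ k, leg k ≫ d = leg' k := fun k => congrArg Quiver.Hom.unop (hc.fac cn k)
  -- the family on the covering is compatible
  have hcompat : ∀ {T : Sheaf J (Type u)} {j k : K} (a : T ⟶ U j) (b : T ⟶ U k), a ≫ leg j = b ≫ leg k →
      G.map a.op (x j) = G.map b.op (x k) := by
    intro T j k a b hab
    let R : Sieve T :=
      { arrows := fun V g => G.map g.op (G.map a.op (x j)) = G.map g.op (G.map b.op (x k))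
        downward_closed := fun {V V'} g hg f => by
          change G.map (f ≫ g).op _ = G.map (f ≫ g).op _
          rw [op_comp, FunctorToTypes.map_comp_apply, FunctorToTypes.map_comp_apply]
          exact congrArg _ hg }
    have hR : LocSurj R := fun e t => by
      have h1 : η.app (op e) ((toQ j).app (op e) (a.hom.app (op e) t)) =
          η.app (op e) ((toQ k).app (op e) (b.hom.app (op e) t)) := by
        have := congrArg (fun s : T ⟶ aQ => s.hom.app (op e) t) (congrArg (· ≫ d) hab)
        simp only [Category.assoc, hd] at this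
        exact this
      refine J.superset_covering ?_ (Presheaf.equalizerSieve_mem J η _ _ h1)
      intro e' f hf
      have hf' : r (op e') ⟨j, (U j).obj.map f.op (a.hom.app (op e) t)⟩ ⟨k, (U k).obj.map f.op (b.hom.app (op e) t)⟩ :=
        Quotient.exact hf
      rw [mem_locSieve]
      show G.map _ (G.map a.op (x j)) = G.map _ (G.map b.op (x k))
      rw [← FunctorToTypes.map_comp_apply, ← FunctorToTypes.map_comp_apply, ← op_comp, ← op_comp,
        lift_comp, lift_comp, NatTrans.naturality_apply, NatTrans.naturality_apply]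
      exact hf'
    exact (hG.isSeparated _ (canonical_of_locSurj hR)).ext fun V g hg => hg
  have harr := ((Sieve.ofArrows U leg).arrows)
  have key : Presieve.IsSheafFor G (Presieve.ofArrows U leg) :=
    (Presieve.isSheafFor_iff_generate _).mpr (hG _ hcov)
  obtain ⟨g, hg, huniq⟩ := (Presieve.isSheafFor_arrows_iff G leg).mp key x
    (fun j k T a b hab => hcompat a b hab)
  exact ⟨g, fun k => hg k, fun g' hg' => huniq g' fun k => hg' k⟩

/-- Sheaves for the canonical topology are the functors turning small colimits into limits. -/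
theorem isSheaf_iff_preserves {E' : Type v} [Category.{w} E'] (F : (Sheaf J (Type u))ᵒᵖ ⥤ E') :
    Presheaf.IsSheaf (Sheaf.canonicalTopology (Sheaf J (Type u))) F ↔ PreservesLimitsOfSize.{u, u} F := by
  constructor
  · intro h
    refine ⟨fun {K} _ => ⟨fun {D} => ⟨fun {c} hc => ⟨coyonedaJointlyReflectsLimits _ _ fun e => ?_⟩⟩⟩⟩
    haveI := preserves_of_isSheaf _ (h e.unop)
    exact isLimitOfPreserves (F ⋙ coyoneda.obj (op e.unop)) hc
  · intro h e
    exact isSheaf_of_preserves _

/-- A functor preserves small colimits iff it is continuous for the canonical topologies. -/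
theorem preservesColimits_iff_isContinuous {D : Type u} [SmallCategory D] {K : GrothendieckTopology D}
    (f : Sheaf J (Type u) ⥤ Sheaf K (Type u)) :
    PreservesColimitsOfSize.{u, u} f ↔
      f.IsContinuous (Sheaf.canonicalTopology (Sheaf J (Type u))) (Sheaf.canonicalTopology (Sheaf K (Type u))) := by
  constructor
  · intro hf
    refine ⟨fun G => ?_⟩
    haveI := preserves_of_isSheaf G.obj ((isSheaf_iff_isSheaf_of_type _ _).1 G.property)
    haveI : PreservesLimitsOfSize.{u, u} f.op := preservesLimitsOfSize_op f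
    exact isSheaf_of_preserves _
  · intro hf
    haveI : PreservesLimitsOfSize.{u, u} f.op := by
      refine ⟨fun {K'} _ => ⟨fun {F} => ⟨fun {c} hc => ⟨yonedaJointlyReflectsLimits _ _ fun W => ?_⟩⟩⟩⟩
      haveI := preserves_of_isSheaf (f.op ⋙ yoneda.obj W)
        (f.op_comp_isSheaf_of_isSheaf_type _ (Sheaf.isSheaf_yoneda_obj W))
      exact isLimitOfPreserves (f.op ⋙ yoneda.obj W) hc
    exact preservesColimitsOfSize_of_op f

/-- A left exact functor preserving small epimorphic families is continuous. -/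
theorem isContinuous_of_lex {D : Type u} [SmallCategory D] {K : GrothendieckTopology D}
    (f : Sheaf J (Type u) ⥤ Sheaf K (Type u)) [PreservesFiniteLimits f]
    (hf : SGA4.PreservesEpiFamilies.{u + 1, u + 1, u} f) :
    f.IsContinuous (Sheaf.canonicalTopology (Sheaf J (Type u))) (Sheaf.canonicalTopology (Sheaf K (Type u))) := by
  haveI := flat_of_preservesFiniteLimits f
  refine Functor.isContinuous_of_coverPreserving (compatiblePreservingOfFlat _ f) ⟨fun {X S} hS => ?_⟩
  have h := locSurj_of_canonical hS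
  let ι := Σ c : C, {x : X.obj.obj (op c) // S (lift x)}
  have hepi : SGA4.IsEpiFamily (fun i : ι => lift i.2.1) := fun Z a b hab => hom_ext fun c x => by
    refine ((isSheaf Z).isSeparated _ (h c x)).ext fun d e he => ?_
    rw [← NatTrans.naturality_apply, ← NatTrans.naturality_apply]
    have := congrArg sec (hab ⟨d, _, mem_locSieve.mp he⟩)
    simpa only [sec_comp, sec_lift] using this
  have h2 := hf ι X _ _ hepi
  refine canonical_of_locSurj (locSurj_of_epi fun Z a b hab => h2 Z a b fun i => hab _ ?_)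
  exact ⟨_, lift i.2.1, 𝟙 _, i.2.2, (Category.id_comp _).symm⟩

theorem sec_map {c d : C} (a : d ⟶ c) :
    sec ((L J).map a) = (toSheafify J (yoneda.obj c)).app (op d) a := by
  have h1 : sec (𝟙 ((L J).obj c)) = (toSheafify J (yoneda.obj c)).app (op c) (𝟙 c) := by
    show yonedaEquiv _ = _
    erw [Adjunction.homEquiv_id, sheafificationAdjunction_unit_app]
    rfl
  have h2 : (L J).map a = lift (((L J).obj c).obj.map a.op (sec (𝟙 ((L J).obj c)))) := by
    rw [← map_lift, lift_sec, Category.comp_id]
  conv_lhs => rw [h2, sec_lift, h1]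
  exact ((NatTrans.naturality_apply (toSheafify J (yoneda.obj c)) a.op (𝟙 c)).symm.trans
    (congrArg _ (Category.comp_id a)))

/-- The sections of a generator lying locally in a covering sieve are everything. -/
theorem gen_local {e : C} (R : Sieve e) (hR : R ∈ J e) (d : C) (y : ((L J).obj e).obj.obj (op d)) :
    ∃ R' ∈ J d, ∀ ⦃d' : C⦄ (b : d' ⟶ d), R' b → ∃ a : d' ⟶ e, R a ∧
      ((L J).obj e).obj.map b.op y = (toSheafify J (yoneda.obj e)).app (op d') a := by
  let η := toSheafify J (yoneda.obj e)
  have hI : Presheaf.imageSieve η (U := d) y ∈ J d := Presheaf.imageSieve_mem J η y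
  refine ⟨Sieve.bind (Presheaf.imageSieve η (U := d) y).arrows (fun _ _ h => R.pullback h.choose),
    J.bind_covering hI fun _ _ _ => J.pullback_stable _ hR, ?_⟩
  rintro d' b ⟨d'', g, b', hb', hg, rfl⟩
  refine ⟨g ≫ hb'.choose, hg, ?_⟩
  rw [op_comp]
  refine (FunctorToTypes.map_comp_apply ((L J).obj e).obj b'.op g.op y).trans ?_
  refine (congrArg (((L J).obj e).obj.map g.op) hb'.choose_spec.symm).trans ?_
  exact (NatTrans.naturality_apply η g.op hb'.choose).symm

/-- A functor preserving small colimits between toposes has a right adjoint. -/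
theorem isLeftAdjoint_of_preservesColimits {D : Type u} [SmallCategory D] {K : GrothendieckTopology D}
    (f : Sheaf J (Type u) ⥤ Sheaf K (Type u)) [PreservesColimitsOfSize.{u, u} f] : f.IsLeftAdjoint := by
  haveI : ∀ W, PreservesLimitsOfSize.{u, u} (f.op ⋙ yoneda.obj W) := fun W => by
    haveI : PreservesLimitsOfSize.{u, u} f.op := preservesLimitsOfSize_op f
    infer_instance
  rw [Functor.isLeftAdjoint_iff_rightAdjointObjIsDefined_eq_top]
  ext W
  simp only [Pi.top_apply, iff_true, Prop.top_eq_true]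
  let H : Cᵒᵖ ⥤ Type u := (L J).op ⋙ f.op ⋙ yoneda.obj W
  let G := f.op ⋙ yoneda.obj W
  -- `H` is a sheaf
  have hH : Presieve.IsSheaf J H := by
    intro c S hS φ hφ
    let X := (L J).obj c
    let η := toSheafify J (yoneda.obj c)
    have hsec : ∀ {d : C} (a : d ⟶ c), sec ((L J).map a) = η.app (op d) a := fun {d} a => sec_map a
    have hsep : ∀ {e : C} (R : Sieve e), R ∈ J e → ∀ u v : H.obj (op e),
        (∀ ⦃d : C⦄ (b : d ⟶ e), R b → H.map b.op u = H.map b.op v) → u = v := by
      intro e R hR u v huv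
      obtain ⟨q, -, hq⟩ := existsUnique_of_preserves (X := (L J).obj e) G
        (P := fun d y => ∃ a : d ⟶ e, R a ∧ y = (toSheafify J (yoneda.obj e)).app (op d) a)
        (fun {c' d} b y ⟨a, ha, hy⟩ => ⟨b ≫ a, R.downward_closed ha b, by
          rw [hy]; exact (NatTrans.naturality_apply (toSheafify J (yoneda.obj e)) b.op a).symm⟩)
        (gen_local R hR) (fun d y _ => G.map (lift y).op u)
        (fun {c' d} b y _ => by rw [← FunctorToTypes.map_comp_apply, ← op_comp, map_lift])
      refine (hq u fun d y _ => rfl).trans (hq v fun d y hy => ?_).symm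
      obtain ⟨a, ha, rfl⟩ := hy
      rw [← sec_map, lift_sec]
      exact (huv a ha).symm
    have hwd : ∀ {d : C} (a b : d ⟶ c) (ha : S a) (hb : S b), η.app (op d) a = η.app (op d) b →
        φ a ha = φ b hb := fun {d} a b ha hb hab => by
      refine hsep _ (Presheaf.equalizerSieve_mem J η _ _ hab) _ _ fun e g hg => ?_
      have hg' : g ≫ a = g ≫ b := hg
      simpa using hφ g g ha hb hg'
    let P : ∀ d, X.obj.obj (op d) → Prop := fun d x => ∃ a : d ⟶ c, S a ∧ x = η.app (op d) a
    obtain ⟨g, hg, huniq⟩ := existsUnique_of_preserves (X := X) (P := P) G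
      (fun {d e} b x ⟨a, ha, hx⟩ => ⟨b ≫ a, S.downward_closed ha b, by
        rw [hx, ← NatTrans.naturality_apply]; rfl⟩)
      (gen_local S hS)
      (fun d x hx => φ hx.choose hx.choose_spec.1)
      (fun {d e} b x hx => by
        rw [show G.map ((L J).map b).op (φ hx.choose hx.choose_spec.1) = φ (b ≫ hx.choose) (S.downward_closed hx.choose_spec.1 b) from by
          have := hφ b (𝟙 _) hx.choose_spec.1 (S.downward_closed hx.choose_spec.1 b) (by simp)
          simp only [op_id, FunctorToTypes.map_id_apply] at this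
          exact this]
        refine hwd _ _ _ _ (Eq.trans ?_ (Exists.choose_spec (p := fun a => S a ∧ X.obj.map b.op x = η.app (op e) a) _).2)
        conv_rhs => rw [hx.choose_spec.2, ← NatTrans.naturality_apply]
        rfl)
    refine ⟨g, fun d a ha => ?_, fun g' hg' => huniq g' fun d x hx => ?_⟩
    · have hP : P d (η.app (op d) a) := ⟨a, ha, rfl⟩
      have := hg d _ hP
      rw [show lift (η.app (op d) a) = (L J).map a from (congrArg lift (hsec a).symm).trans (lift_sec _)] at this
      exact this.trans (hwd _ _ _ _ hP.choose_spec.2.symm)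
    · obtain ⟨a, ha, rfl⟩ := hx
      have hP : P d (η.app (op d) a) := ⟨a, ha, rfl⟩
      rw [show lift (η.app (op d) a) = (L J).map a from (congrArg lift (hsec a).symm).trans (lift_sec _)]
      exact (hg' a ha).trans (hwd _ _ _ _ hP.choose_spec.2)
  let R : Sheaf J (Type u) := ⟨H, (isSheaf_iff_isSheaf_of_type _ _).2 hH⟩
  -- elements of `G X` are maps to `R`
  have hb : ∀ X : Sheaf J (Type u), ∀ z : X ⟶ R, ∃! g : G.obj (op X),
      ∀ (c : C) (x : X.obj.obj (op c)), G.map (lift x).op g = z.hom.app (op c) x := fun X z => by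
    obtain ⟨g, hg, hu⟩ := existsUnique_of_preserves (X := X) (P := fun _ _ => True) G (fun _ _ _ => trivial)
      (fun c _ => ⟨⊤, J.top_mem c, fun _ _ _ => trivial⟩) (fun c x _ => z.hom.app (op c) x)
      (fun {c d} a x _ => (NatTrans.naturality_apply z.hom a.op x).symm)
    exact ⟨g, fun c x => hg c x trivial, fun g' hg' => hu g' fun c x _ => hg' c x⟩
  let inv : ∀ X : Sheaf J (Type u), G.obj (op X) → (X ⟶ R) := fun X g =>
    ⟨{ app := fun c => ↾(fun x => G.map (lift (c := c.unop) x).op g)
       naturality := fun c d a => by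
         ext x
         change G.map (lift (c := d.unop) (X.obj.map a x)).op g = G.map ((L J).map a.unop).op (G.map (lift (c := c.unop) x).op g)
         rw [← FunctorToTypes.map_comp_apply, ← op_comp, map_lift]
         rfl }⟩
  exact ⟨R, ⟨{
    homEquiv := fun {X} =>
      { toFun := fun z => (hb X z).choose
        invFun := inv X
        left_inv := fun z => hom_ext fun c x => (hb X z).choose_spec.1 c x
        right_inv := fun g => ((hb X (inv X g)).choose_spec.2 g fun _ _ => rfl).symm }
    homEquiv_comp := fun {X X'} p z => by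
      refine ((hb X (p ≫ z)).choose_spec.2 _ fun c x => ?_).symm
      change G.map (lift x).op (G.map p.op (hb X' z).choose) = z.hom.app (op c) (p.hom.app (op c) x)
      rw [← FunctorToTypes.map_comp_apply, ← op_comp, lift_comp]
      exact (hb X' z).choose_spec.1 c _ }⟩⟩

end Groth.Agent.CanonTopos
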